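import Mathlib
import Groth.Agent.Lib.SepField.Smooth

/-! # Elements of the maximal ideal with vanishing differential -/

set_option autoImplicit false
set_option linter.style.haveILetI false
set_option maxHeartbeats 400000
universe u

open IsLocalRing TensorProduct

namespace GrothLib.PPolyReg

/-- If `p` lies in the square of the maximal ideal and the residue field has characteristic `p`, then
`n/n² → Ω_{P/ℤ} ⊗ k` is injective. -/
theorem mem_sq_of_D_mem {P : Type u} [CommRing P] [IsLocalRing P] (p : ℕ) [Fact p.Prime]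
    [CharP (ResidueField P) p] (hp : (p : P) ∈ maximalIdeal P ^ 2) {x : P} (hx : x ∈ maximalIdeal P)
    (hD : KaehlerDifferential.D ℤ P x ∈ maximalIdeal P • (⊤ : Submodule P (KaehlerDifferential ℤ P))) :
    x ∈ maximalIdeal P ^ 2 := by
  let n := maximalIdeal P
  let R := P ⧸ n ^ 2
  haveI : Nontrivial R := Ideal.Quotient.nontrivial_iff.2 fun h =>
    (maximalIdeal.isMaximal P).ne_top (top_le_iff.1 (h ▸ Ideal.pow_le_self two_ne_zero))
  haveI : CharP R p := by
    have h0 : (p : R) = 0 := by
      rw [← map_natCast (Ideal.Quotient.mk (n ^ 2)) p]; exact Ideal.Quotient.eq_zero_iff_mem.2 hp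
    exact (CharP.charP_iff_prime_eq_zero Fact.out).2 h0
  letI : Algebra (ULift.{u} (ZMod p)) R := ((ZMod.castHom dvd_rfl R).comp ULift.ringEquiv.toRingHom).toAlgebra
  letI : Algebra (ULift.{u} (ZMod p)) (ResidueField P) :=
    ((ZMod.castHom dvd_rfl (ResidueField P)).comp ULift.ringEquiv.toRingHom).toAlgebra
  haveI : CharP (ULift.{u} (ZMod p)) p := charP_of_injective_ringHom (f := (ULift.ringEquiv.symm : ZMod p ≃+* ULift.{u} (ZMod p)).toRingHom) (RingEquiv.injective _) p
  haveI : PerfectRing (ULift.{u} (ZMod p)) p := PerfectRing.ofFiniteOfIsReduced _ _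
  let I : Ideal R := n.map (Ideal.Quotient.mk (n ^ 2))
  have hI2 : I ^ 2 = ⊥ := by rw [← Ideal.map_pow, Ideal.map_quotient_self]
  let π : R →+* ResidueField P := Ideal.Quotient.lift (n ^ 2) (residue P) fun a ha =>
    (residue_eq_zero_iff a).2 (Ideal.pow_le_self two_ne_zero ha)
  let π' : R ⧸ I →+* ResidueField P := Ideal.Quotient.lift I π fun a ha => by
    obtain ⟨b, hb, rfl⟩ := (Ideal.mem_map_iff_of_surjective _ Ideal.Quotient.mk_surjective).1 ha
    exact (residue_eq_zero_iff b).2 hb
  have hπ' : Function.Bijective π' := by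
    refine ⟨(injective_iff_map_eq_zero _).2 fun a ha => ?_, fun y => ?_⟩
    · obtain ⟨a, rfl⟩ := Ideal.Quotient.mk_surjective a
      obtain ⟨b, rfl⟩ := Ideal.Quotient.mk_surjective a
      exact Ideal.Quotient.eq_zero_iff_mem.2 (Ideal.mem_map_of_mem _ ((residue_eq_zero_iff b).1 ha))
    · obtain ⟨b, rfl⟩ := residue_surjective y
      exact ⟨Ideal.Quotient.mk I (Ideal.Quotient.mk _ b), rfl⟩
  let g : ResidueField P →ₐ[ULift.{u} (ZMod p)] R ⧸ I :=
    { (RingEquiv.ofBijective π' hπ').symm.toRingHom with
      commutes' := fun z => by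
        obtain ⟨z⟩ := z
        exact RingHom.congr_fun (Subsingleton.elim
          (((RingEquiv.ofBijective π' hπ').symm.toRingHom.comp
            (algebraMap (ULift.{u} (ZMod p)) (ResidueField P))).comp ULift.ringEquiv.symm.toRingHom)
          ((algebraMap (ULift.{u} (ZMod p)) (R ⧸ I)).comp ULift.ringEquiv.symm.toRingHom)) z }
  haveI : Algebra.FormallySmooth (ULift.{u} (ZMod p)) (ResidueField P) :=
    GrothLib.SepField.formallySmooth_perfect p
  let σ : ResidueField P →ₐ[ULift.{u} (ZMod p)] R := Algebra.FormallySmooth.lift I ⟨2, hI2⟩ g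
  let q := Ideal.Quotient.mk (n ^ 2)
  have hσ : ∀ a : P, q a - σ (residue P a) ∈ I := fun a => by
    rw [← Ideal.Quotient.eq_zero_iff_mem, map_sub,
      Algebra.FormallySmooth.mk_lift I ⟨2, hI2⟩ g (residue P a), sub_eq_zero]
    exact (RingEquiv.symm_apply_apply (RingEquiv.ofBijective π' hπ') (Ideal.Quotient.mk I (q a))).symm
  have hII : ∀ a ∈ I, ∀ b ∈ I, a * b = 0 := fun a ha b hb => by
    have h := Ideal.mul_mem_mul ha hb
    rwa [← sq, hI2, Ideal.mem_bot] at h
  let δ : Derivation ℤ P R := Derivation.mk'
    { toFun := fun a => q a - σ (residue P a)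
      map_add' := fun a b => by simp only [map_add]; ring
      map_smul' := fun m a => by simp only [map_zsmul, RingHom.id_apply, smul_sub] }
    fun a b => by
      have h := hII _ (hσ a) _ (hσ b)
      show q (a * b) - σ (residue P (a * b)) = a • (q b - σ (residue P b)) + b • (q a - σ (residue P a))
      simp only [map_mul, Algebra.smul_def]
      show _ = q a * (q b - σ (residue P b)) + q b * (q a - σ (residue P a))
      linear_combination (-1 : R) * h
  let l := δ.liftKaehlerDifferential
  have hl : ∀ w, l w ∈ I := fun w => by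
    have hw : w ∈ Submodule.span P (Set.range (KaehlerDifferential.D ℤ P)) := by
      rw [KaehlerDifferential.span_range_derivation]; trivial
    induction hw using Submodule.span_induction with
    | mem x hx => obtain ⟨a, rfl⟩ := hx; rw [Derivation.liftKaehlerDifferential_comp_D]; exact hσ a
    | zero => rw [map_zero]; exact zero_mem _
    | add x y _ _ hx hy => rw [map_add]; exact add_mem hx hy
    | smul a x _ hx => rw [map_smul, Algebra.smul_def]; exact I.mul_mem_left _ hx
  have h0 : l (KaehlerDifferential.D ℤ P x) = 0 := by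
    refine Submodule.smul_induction_on hD (fun a ha w _ => ?_) fun u v hu hv => by rw [map_add, hu, hv, add_zero]
    rw [map_smul, Algebra.smul_def]
    exact hII _ (Ideal.mem_map_of_mem q ha) _ (hl w)
  rw [Derivation.liftKaehlerDifferential_comp_D] at h0
  change q x - σ (residue P x) = 0 at h0
  rw [(residue_eq_zero_iff x).2 hx, map_zero, sub_zero] at h0
  exact Ideal.Quotient.eq_zero_iff_mem.1 h0

end GrothLib.PPolyReg
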