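import Groth.Agent.Lib.PPolyReg.Cot
import Groth.Agent.Lib.Serre.Partial
import Groth.Agent.Lib.Serre.Ring
import Groth.Agent.Lib.Altitude.Basic

/-! # Regularity of quotients by `p`-polynomials -/

set_option autoImplicit false
set_option linter.style.haveILetI false
set_option maxHeartbeats 400000
universe u

open IsLocalRing TensorProduct GrothLib.Serre

namespace GrothLib.PPolyReg

variable {A : Type u} [CommRing A] [IsRegularLocalRing A] (p : ℕ) [hpr : Fact p.Prime] [CharP (ResidueField A) p]
  {r : ℕ} (f : Fin r → A) (F S : Fin r → MvPolynomial (Fin r) A)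
  (hF : ∀ i, F i = MvPolynomial.X i ^ p + (p : MvPolynomial (Fin r) A) * S i - MvPolynomial.C (f i))

include hpr in
theorem natCast_mem : (p : A) ∈ maximalIdeal A := by
  rw [← residue_eq_zero_iff, map_natCast]; exact CharP.cast_eq_zero _ p

include hF in
/-- Modulo `m`, every element has its `p`-th power in `A`. -/
theorem exists_pow_sub_mem (b : MvPolynomial (Fin r) A) :
    ∃ a : A, b ^ p - MvPolynomial.C a ∈ (maximalIdeal A).map MvPolynomial.C ⊔ Ideal.span (Set.range F) := by
  let J := (maximalIdeal A).map (MvPolynomial.C : A →+* MvPolynomial (Fin r) A) ⊔ Ideal.span (Set.range F)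
  have hp0 : (p : MvPolynomial (Fin r) A ⧸ J) = 0 := by
    rw [← map_natCast (Ideal.Quotient.mk J), Ideal.Quotient.eq_zero_iff_mem, ← map_natCast MvPolynomial.C]
    exact Ideal.mem_sup_left (Ideal.mem_map_of_mem _ (natCast_mem p))
  suffices ∃ a : A, Ideal.Quotient.mk J b ^ p = Ideal.Quotient.mk J (MvPolynomial.C a) by
    obtain ⟨a, ha⟩ := this
    exact ⟨a, by rw [← map_pow, Ideal.Quotient.eq] at ha; exact ha⟩
  have hadd : ∀ x y : MvPolynomial (Fin r) A ⧸ J, (x + y) ^ p = x ^ p + y ^ p := fun x y => by
    obtain ⟨z, hz⟩ := exists_add_pow_prime_eq hpr.out x y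
    rw [hz, hp0]; ring
  induction b using MvPolynomial.induction_on with
  | C a => exact ⟨a ^ p, by simp [map_pow]⟩
  | add x y hx hy =>
    obtain ⟨a, ha⟩ := hx; obtain ⟨c, hc⟩ := hy
    exact ⟨a + c, by rw [map_add, hadd, ha, hc, map_add, map_add]⟩
  | mul_X x i hx =>
    obtain ⟨a, ha⟩ := hx
    refine ⟨a * f i, ?_⟩
    have hX : Ideal.Quotient.mk J (MvPolynomial.X i) ^ p = Ideal.Quotient.mk J (MvPolynomial.C (f i)) := by
      have h : Ideal.Quotient.mk J (F i) = 0 :=
        Ideal.Quotient.eq_zero_iff_mem.2 (Ideal.mem_sup_right (Ideal.subset_span ⟨i, rfl⟩))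
      rw [hF, map_sub, map_add, map_mul, map_pow, map_natCast, hp0, zero_mul, add_zero, sub_eq_zero] at h
      exact h
    rw [map_mul, mul_pow, ha, hX, map_mul, map_mul]

abbrev B := MvPolynomial (Fin r) A ⧸ Ideal.span (Set.range F)

include hF in
theorem mem_maximal_iff (M : Ideal (MvPolynomial (Fin r) A)) [M.IsPrime]
    (hFM : Ideal.span (Set.range F) ≤ M) (hm : M.comap MvPolynomial.C = maximalIdeal A)
    (b : MvPolynomial (Fin r) A) (a : A)
    (ha : b ^ p - MvPolynomial.C a ∈ (maximalIdeal A).map MvPolynomial.C ⊔ Ideal.span (Set.range F)) :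
    b ∈ M ↔ a ∈ maximalIdeal A := by
  have h : b ^ p - MvPolynomial.C a ∈ M := (sup_le (Ideal.map_le_iff_le_comap.2 hm.ge) hFM) ha
  rw [← hm, Ideal.mem_comap]
  exact ⟨fun hb => by simpa using M.sub_mem (Ideal.pow_mem_of_mem M hb p hpr.out.pos) h,
    fun ha' => Ideal.IsPrime.mem_of_pow_mem ‹_› p (by simpa using M.add_mem h ha')⟩

variable (hint : ∀ i, ∃ q : Polynomial A, q.Monic ∧
    Polynomial.eval₂ ((Ideal.Quotient.mk (Ideal.span (Set.range F))).comp MvPolynomial.C)
      (Ideal.Quotient.mk _ (MvPolynomial.X i)) q = 0)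

include hint in
theorem isIntegral_B : Algebra.IsIntegral A (B F) := by
  refine ⟨fun b => ?_⟩
  obtain ⟨b, rfl⟩ := Ideal.Quotient.mk_surjective b
  induction b using MvPolynomial.induction_on with
  | C a => exact isIntegral_algebraMap (x := a)
  | add x y hx hy => rw [map_add]; exact hx.add hy
  | mul_X x i hx =>
    rw [map_mul]
    obtain ⟨q, hq, hq0⟩ := hint i
    exact hx.mul ⟨q, hq, hq0⟩

include hF hint in
theorem isLocalRing_B : IsLocalRing (B F) := by
  haveI := isIntegral_B F hint
  haveI : Nontrivial (B F) := by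
    refine Ideal.Quotient.nontrivial_iff.2 fun htop => ?_
    let K := AlgebraicClosure (ResidueField A)
    haveI : CharP K p := charP_of_injective_algebraMap (algebraMap (ResidueField A) K).injective p
    choose t ht using fun i => IsAlgClosed.exists_pow_nat_eq (k := K) (algebraMap _ K (residue A (f i))) hpr.out.pos
    let e := MvPolynomial.eval₂Hom ((algebraMap (ResidueField A) K).comp (residue A)) t
    have h1 : Ideal.span (Set.range F) ≤ RingHom.ker e := Ideal.span_le.2 (by
      rintro _ ⟨i, rfl⟩
      simp [RingHom.mem_ker, hF, e, ht])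
    have h2 := h1 (htop ▸ Submodule.mem_top : (1 : MvPolynomial (Fin r) A) ∈ _)
    simp [RingHom.mem_ker] at h2
  have key : ∀ M : Ideal (B F), M.IsMaximal → ∀ b : MvPolynomial (Fin r) A, ∀ a : A,
      b ^ p - MvPolynomial.C a ∈ (maximalIdeal A).map MvPolynomial.C ⊔ Ideal.span (Set.range F) →
      (Ideal.Quotient.mk _ b ∈ M ↔ a ∈ maximalIdeal A) := by
    intro M hM b a ha
    haveI := hM.isPrime
    refine mem_maximal_iff p f F S hF (M.comap (Ideal.Quotient.mk _))
      (fun x hx => by rw [Ideal.mem_comap, Ideal.Quotient.eq_zero_iff_mem.2 hx]; exact M.zero_mem) ?_ b a ha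
    exact IsLocalRing.eq_maximalIdeal (Ideal.isMaximal_comap_of_isIntegral_of_isMaximal (R := A) M)
  obtain ⟨M, hM⟩ := Ideal.exists_maximal (B F)
  refine IsLocalRing.of_unique_max_ideal ⟨M, hM, fun N hN => ?_⟩
  ext z
  obtain ⟨z, rfl⟩ := Ideal.Quotient.mk_surjective z
  obtain ⟨a, ha⟩ := exists_pow_sub_mem p f F S hF z
  rw [key N hN z a ha, key M hM z a ha]

omit [IsRegularLocalRing A] in
/-- Derivations with values in the residue field, dual to independent differentials. -/
theorem exists_delta [IsLocalRing A]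
    (hli : LinearIndependent (ResidueField A) (fun i => (1 : ResidueField A) ⊗ₜ[A] KaehlerDifferential.D ℤ A (f i)))
    (i₀ : Fin r) : ∃ δ : A → ResidueField A, (∀ b c, δ (b + c) = δ b + δ c) ∧
      (∀ b c, δ (b * c) = residue A b * δ c + residue A c * δ b) ∧ ∀ i, δ (f i) = if i = i₀ then 1 else 0 := by
  obtain ⟨Φ, hΦ⟩ := LinearMap.exists_extend ((Finsupp.lapply i₀).comp hli.repr)
  refine ⟨fun b => Φ ((1 : ResidueField A) ⊗ₜ[A] KaehlerDifferential.D ℤ A b), fun b c => ?_, fun b c => ?_,
    fun i => ?_⟩
  · simp only [map_add, tmul_add]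
  · simp only
    rw [Derivation.leibniz, tmul_add, tmul_smul, tmul_smul, map_add,
      ← IsScalarTower.algebraMap_smul (ResidueField A) b, ← IsScalarTower.algebraMap_smul (ResidueField A) c,
      map_smul, map_smul]
    rfl
  · have := LinearMap.congr_fun hΦ ⟨_, Submodule.subset_span (Set.mem_range_self i)⟩
    refine this.trans ?_
    show (hli.repr ⟨_, _⟩) i₀ = _
    rw [hli.repr_eq_single i _ rfl, Finsupp.single_apply]

include hF in
/-- Coefficients of a relation modulo `N²` among independent `p`-polynomials lie in `N`. -/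
theorem coeff_mem
    (hli : LinearIndependent (ResidueField A) (fun i => (1 : ResidueField A) ⊗ₜ[A] KaehlerDifferential.D ℤ A (f i)))
    (N : Ideal (MvPolynomial (Fin r) A)) [N.IsMaximal] (hNA : N.comap MvPolynomial.C = maximalIdeal A)
    (hFN : ∀ i, F i ∈ N) (a : Fin r → MvPolynomial (Fin r) A) (t : MvPolynomial (Fin r) A)
    (hts : t * (∑ i, a i * F i) ∈ N ^ 2) (i₀ : Fin r) (ht : t ∉ N) : a i₀ ∈ N := by
  classical
  obtain ⟨δ, hδa, hδm, hδf⟩ := exists_delta f hli i₀
  letI : Field (MvPolynomial (Fin r) A ⧸ N) := Ideal.Quotient.field N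
  let π := Ideal.Quotient.mk N
  let j : ResidueField A →+* MvPolynomial (Fin r) A ⧸ N :=
    Ideal.Quotient.lift (maximalIdeal A) (π.comp MvPolynomial.C)
      (fun b hb => Ideal.Quotient.eq_zero_iff_mem.2 (hNA.ge hb))
  have hj : ∀ b, j (residue A b) = π (MvPolynomial.C b) := fun b => rfl
  have hδ0 : δ 0 = 0 := by simpa using hδa 0 0
  have hδ1 : δ 1 = 0 := by simpa using hδm 1 1
  let g : A →+* TrivSqZeroExt (MvPolynomial (Fin r) A ⧸ N) (MvPolynomial (Fin r) A ⧸ N) :=
    { toFun := fun b => TrivSqZeroExt.inl (π (MvPolynomial.C b)) + TrivSqZeroExt.inr (j (δ b))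
      map_one' := by ext <;> simp [hδ1]
      map_zero' := by ext <;> simp [hδ0]
      map_add' := fun b c => by ext <;> simp [hδa]
      map_mul' := fun b c => by
        ext
        · simp
        · simp only [TrivSqZeroExt.snd_add, TrivSqZeroExt.snd_inl, TrivSqZeroExt.snd_inr, TrivSqZeroExt.snd_mul,
            TrivSqZeroExt.fst_add, TrivSqZeroExt.fst_inl, TrivSqZeroExt.fst_inr, hδm, map_add, map_mul, hj,
            zero_add, add_zero, smul_eq_mul, MulOpposite.smul_eq_mul_unop, MulOpposite.unop_op]
          ring }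
  let E := MvPolynomial.eval₂Hom g fun i => TrivSqZeroExt.inl (π (MvPolynomial.X i))
  have hfst : ∀ b, (E b).fst = π b := fun b => by
    induction b using MvPolynomial.induction_on with
    | C b => simp [E, g]
    | add x y hx hy => simp [map_add, hx, hy]
    | mul_X x i hx => rw [map_mul, TrivSqZeroExt.fst_mul, hx]; simp [E]
  have hπ : ∀ b ∈ N, π b = 0 := fun b hb => Ideal.Quotient.eq_zero_iff_mem.2 hb
  have hN2 : (E (t * ∑ i, a i * F i)).snd = 0 := by
    suffices ∀ b ∈ N ^ 2, (E b).snd = 0 from this _ hts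
    intro b hb
    rw [sq] at hb
    refine Submodule.mul_induction_on hb (fun u hu v hv => ?_) fun u v hu hv => by
      rw [map_add, TrivSqZeroExt.snd_add, hu, hv, add_zero]
    rw [map_mul, TrivSqZeroExt.snd_mul, hfst, hfst, hπ u hu, hπ v hv]
    simp
  have hp0 : ((p : MvPolynomial (Fin r) A ⧸ N)) = 0 := by
    rw [← map_natCast π, ← map_natCast MvPolynomial.C]
    exact hπ _ (hNA.ge (natCast_mem p))
  have hEF : ∀ i, (E (F i)).snd = if i = i₀ then -1 else 0 := fun i => by
    have hpE : E (p : MvPolynomial (Fin r) A) = 0 := by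
      rw [map_natCast]; ext <;> simp [hp0]
    rw [hF, map_sub, map_add, map_mul, hpE, zero_mul, add_zero, map_pow]
    by_cases h : i = i₀ <;> simp [E, g, hδf, h]
  have hterm : ∀ i, (E (a i * F i)).snd = π (a i) * (E (F i)).snd := fun i => by
    rw [map_mul, TrivSqZeroExt.snd_mul, hfst, hfst, hπ _ (hFN i)]
    simp
  have hsum : π (∑ i, a i * F i) = 0 := hπ _ (N.sum_mem fun i _ => N.mul_mem_left _ (hFN i))
  rw [map_mul, TrivSqZeroExt.snd_mul, hfst, hfst, hsum, map_sum, TrivSqZeroExt.snd_sum] at hN2
  simp only [hterm, hEF, mul_ite, mul_zero, Finset.sum_ite_eq', Finset.mem_univ, if_true, mul_neg, mul_one,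
    smul_eq_mul, MulOpposite.op_zero, zero_smul, add_zero, neg_eq_zero, mul_eq_zero] at hN2
  exact Ideal.Quotient.eq_zero_iff_mem.1 (hN2.resolve_left fun h => ht (Ideal.Quotient.eq_zero_iff_mem.1 h))

omit [IsRegularLocalRing A] in
theorem smul_rearrange {L : Type*} [CommRing L] {M : Type*} [AddCommGroup M] [Module L M] (u v : L) (x y z : M) :
    u • x + v • y = v • y + u • (x + z) - u • z := by
  rw [smul_add]; abel

include hF hint in
/-- **The criterion.** -/
theorem isRegular_iff (hp : (p : A) ∈ maximalIdeal A ^ 2) :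
    IsRegularRing (B F) ↔
      LinearIndependent (ResidueField A) (fun i => (1 : ResidueField A) ⊗ₜ[A] KaehlerDifferential.D ℤ A (f i)) := by
  classical
  haveI := isLocalRing_B p f F S hF hint
  haveI := isIntegral_B F hint
  let q := Ideal.Quotient.mk (Ideal.span (Set.range F))
  let N : Ideal (MvPolynomial (Fin r) A) := (maximalIdeal (B F)).comap q
  haveI : N.IsMaximal := Ideal.comap_isMaximal_of_surjective q Ideal.Quotient.mk_surjective
  have hFN : ∀ i, F i ∈ N := fun i => by
    show q (F i) ∈ maximalIdeal (B F)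
    rw [Ideal.Quotient.eq_zero_iff_mem.2 (Ideal.subset_span (Set.mem_range_self i))]; exact zero_mem _
  have hNA : N.comap MvPolynomial.C = maximalIdeal A :=
    IsLocalRing.eq_maximalIdeal (Ideal.isMaximal_comap_of_isIntegral_of_isMaximal (R := A) (maximalIdeal (B F)))
  haveI : N.LiesOver (maximalIdeal A) := ⟨hNA.symm⟩
  haveI : IsRegularRing A := GrothLib.Serre.isRegularRing_of_isRegularLocalRing A
  let L := Localization.AtPrime N
  let ι := algebraMap (MvPolynomial (Fin r) A) L
  -- the quotient of the localization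
  let ρ : L →+* B F := IsLocalization.lift (M := N.primeCompl) (g := q) fun x => by
    by_contra hx
    exact x.2 (hx : q x.1 ∈ maximalIdeal (B F))
  have hρ : ∀ x, ρ (ι x) = q x := fun x => IsLocalization.lift_eq _ x
  let ψ0 : L ⧸ Ideal.span (Set.range fun i => ι (F i)) →+* B F :=
    Ideal.Quotient.lift _ ρ (fun x hx => (Ideal.span_le.2 (by
      rintro _ ⟨i, rfl⟩
      exact (hρ (F i)).trans (Ideal.Quotient.eq_zero_iff_mem.2 (Ideal.subset_span ⟨i, rfl⟩))) :
        Ideal.span (Set.range fun i => ι (F i)) ≤ RingHom.ker ρ) hx)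
  have hψ0 : Function.Bijective ψ0 := by
    refine ⟨(injective_iff_map_eq_zero _).2 fun z hz => ?_, fun z => ?_⟩
    · obtain ⟨z, rfl⟩ := Ideal.Quotient.mk_surjective z
      obtain ⟨⟨a, s⟩, hzs⟩ := IsLocalization.surj N.primeCompl z
      have hz' : ρ z = 0 := hz
      have ha : a ∈ Ideal.span (Set.range F) := by
        rw [← Ideal.Quotient.eq_zero_iff_mem]
        exact (hρ a).symm.trans (by rw [← hzs, map_mul, hz', zero_mul])
      have : ι a ∈ Ideal.span (Set.range fun i => ι (F i)) := by
        have := Ideal.mem_map_of_mem ι ha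
        rwa [Ideal.map_span, ← Set.range_comp] at this
      rw [← hzs] at this
      exact Ideal.Quotient.eq_zero_iff_mem.2 ((Ideal.mul_unit_mem_iff_mem _ (IsLocalization.map_units L s)).1 this)
    · obtain ⟨z, rfl⟩ := Ideal.Quotient.mk_surjective z
      exact ⟨Ideal.Quotient.mk _ (ι z), hρ z⟩
  let e := RingEquiv.ofBijective ψ0 hψ0
  have hfm : ∀ i, ι (F i) ∈ maximalIdeal L := fun i =>
    (IsLocalization.AtPrime.to_map_mem_maximal_iff L N (F i)).2 (hFN i)
  have hinN : ∀ a : A, a ∈ maximalIdeal A ↔ ι (MvPolynomial.C a) ∈ maximalIdeal L := fun a => by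
    rw [IsLocalization.AtPrime.to_map_mem_maximal_iff L N, ← hNA]; rfl
  constructor
  · intro hreg
    haveI : IsRegularLocalRing (B F) := IsRegularLocalRing.of_isRegularRing_of_isLocalRing (B F)
    have hBA : ringKrullDim (B F) ≤ ringKrullDim A := GrothLib.Dim.ringKrullDim_le_of_isIntegral A (B F)
    obtain ⟨s, hs, hht⟩ := GrothLib.Altitude.height_add_trdeg_mvPolynomial (maximalIdeal A) N
    have hs0 : s = 0 := by
      haveI : Algebra.IsIntegral A (MvPolynomial (Fin r) A ⧸ N) := by
        refine ⟨fun z => ?_⟩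
        obtain ⟨z, rfl⟩ := Ideal.Quotient.mk_surjective z
        obtain ⟨g, hg, hg0⟩ := (Algebra.IsIntegral.isIntegral (R := A) (q z))
        refine ⟨g, hg, ?_⟩
        rw [← Polynomial.aeval_def] at hg0 ⊢
        have h1 : Polynomial.aeval z g ∈ Ideal.span (Set.range F) := by
          rw [← Ideal.Quotient.eq_zero_iff_mem, ← Ideal.Quotient.mkₐ_eq_mk A, ← Polynomial.aeval_algHom_apply]
          exact hg0
        have h2 : Polynomial.aeval z g ∈ N := (Ideal.span_le.2 (by rintro _ ⟨i, rfl⟩; exact hFN i)) h1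
        rw [← Ideal.Quotient.mkₐ_eq_mk A, Polynomial.aeval_algHom_apply, Ideal.Quotient.mkₐ_eq_mk]
        exact Ideal.Quotient.eq_zero_iff_mem.2 h2
      haveI : Algebra.IsIntegral (A ⧸ maximalIdeal A) (MvPolynomial (Fin r) A ⧸ N) :=
        Algebra.IsIntegral.tower_top A
      haveI : Algebra.IsAlgebraic (A ⧸ maximalIdeal A) (MvPolynomial (Fin r) A ⧸ N) := Algebra.IsIntegral.isAlgebraic
      have := trdeg_eq_zero (R := A ⧸ maximalIdeal A) (A := MvPolynomial (Fin r) A ⧸ N)
      rw [hs] at this
      exact_mod_cast this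
    rw [hs0, Nat.cast_zero, add_zero] at hht
    rw [linearIndependent_iff'']
    intro t g hgt hsum i₀
    by_contra hgi
    choose a ha using fun i => residue_surjective (g i)
    let x : L := ∑ i, ι (MvPolynomial.C (a i)) * ι (F i)
    haveI : CharP (ResidueField L) p := by
      refine (CharP.charP_iff_prime_eq_zero hpr.out).2 ?_
      rw [← map_natCast (residue L), residue_eq_zero_iff, ← map_natCast ι, ← map_natCast MvPolynomial.C]
      exact (hinN _).1 (natCast_mem p)
    have hpL : (p : L) ∈ maximalIdeal L ^ 2 := by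
      have h := Ideal.mem_map_of_mem (ι.comp MvPolynomial.C) hp
      rw [map_natCast, Ideal.map_pow] at h
      exact Ideal.pow_right_mono (Ideal.map_le_iff_le_comap.2 (fun a ha => (hinN a).1 ha) : (maximalIdeal A).map (ι.comp MvPolynomial.C) ≤ maximalIdeal L) 2 h
    have hx : x ∈ maximalIdeal L := Ideal.sum_mem _ fun i _ => Ideal.mul_mem_left _ _ (hfm i)
    -- the differential of `x`
    letI : Algebra ℤ L := Ring.toIntAlgebra L
    haveI : IsScalarTower ℤ A L := IsScalarTower.of_algebraMap_eq fun z => by simp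
    let J : Submodule L (KaehlerDifferential ℤ L) := maximalIdeal L • ⊤
    let φ : KaehlerDifferential ℤ A →ₗ[A] KaehlerDifferential ℤ L := KaehlerDifferential.map ℤ ℤ A L
    have hAL : ∀ c : A, algebraMap A L c = ι (MvPolynomial.C c) := fun c =>
      IsScalarTower.algebraMap_apply A (MvPolynomial (Fin r) A) L c
    have hpJ : ∀ y : L, KaehlerDifferential.D ℤ L ((p : L) * y) ∈ J := fun y => by
      rw [Derivation.leibniz, Derivation.map_natCast, smul_zero, add_zero]
      exact Submodule.smul_mem_smul (Ideal.pow_le_self two_ne_zero hpL) Submodule.mem_top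
    have hDF : ∀ i, KaehlerDifferential.D ℤ L (ι (F i)) + φ (KaehlerDifferential.D ℤ A (f i)) ∈ J := fun i => by
      rw [hF, map_sub, map_add, map_mul, map_pow, map_natCast, map_sub, map_add, KaehlerDifferential.map_D, hAL,
        sub_add_cancel]
      refine J.add_mem ?_ (hpJ _)
      rw [Derivation.leibniz_pow, ← Nat.cast_smul_eq_nsmul L]
      exact Submodule.smul_mem_smul (Ideal.pow_le_self two_ne_zero hpL) Submodule.mem_top
    let w : KaehlerDifferential ℤ A := ∑ i, a i • KaehlerDifferential.D ℤ A (f i)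
    have hw : w ∈ maximalIdeal A • (⊤ : Submodule A (KaehlerDifferential ℤ A)) := by
      have h1 : (1 : ResidueField A) ⊗ₜ[A] w = 0 := by
        rw [tmul_sum, ← hsum]
        have : ∀ i, (1 : ResidueField A) ⊗ₜ[A] (a i • KaehlerDifferential.D ℤ A (f i)) =
            g i • ((1 : ResidueField A) ⊗ₜ[A] KaehlerDifferential.D ℤ A (f i)) := fun i => by
          rw [tmul_smul, ← ha i, ← IsScalarTower.algebraMap_smul (ResidueField A) (a i)]; rfl
        simp only [this]
        exact (Finset.sum_subset (Finset.subset_univ t) fun i _ hi => by rw [hgt i hi, zero_smul]).symm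
      rw [← Submodule.Quotient.mk_eq_zero]
      exact ((quotTensorEquivQuotSMul (KaehlerDifferential ℤ A) (maximalIdeal A)).symm.injective
        (by rw [map_zero]; exact ((quotTensorEquivQuotSMul_symm_mk _ _).trans h1)))
    have hφw : φ w ∈ J := by
      refine Submodule.smul_induction_on hw (fun c hc v _ => ?_) fun u v hu hv => by rw [map_add]; exact J.add_mem hu hv
      rw [map_smul, ← IsScalarTower.algebraMap_smul L c, hAL]
      exact Submodule.smul_mem_smul ((hinN c).1 hc) Submodule.mem_top
    have hDx : KaehlerDifferential.D ℤ L x ∈ J := by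
      have : KaehlerDifferential.D ℤ L x = ∑ i, (ι (F i) • KaehlerDifferential.D ℤ L (ι (MvPolynomial.C (a i))) +
          ι (MvPolynomial.C (a i)) • (KaehlerDifferential.D ℤ L (ι (F i)) + φ (KaehlerDifferential.D ℤ A (f i)))) - φ w := by
        simp only [x, w, map_sum, ← Finset.sum_sub_distrib]
        refine Finset.sum_congr rfl fun i _ => ?_
        rw [Derivation.leibniz, map_smul, ← IsScalarTower.algebraMap_smul L (a i), hAL]
        exact smul_rearrange _ _ _ _ _
      rw [this]
      exact J.sub_mem (J.sum_mem fun i _ => J.add_mem (Submodule.smul_mem_smul (hfm i) Submodule.mem_top)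
        (J.smul_mem _ (hDF i))) hφw
    have hx2 := mem_sq_of_D_mem p hpL hx hDx
    have hu : IsUnit (ι (MvPolynomial.C (a i₀))) := by
      by_contra hu
      refine hgi ?_
      rw [← ha i₀, residue_eq_zero_iff, hinN]
      exact hu
    -- too many generators
    haveI : IsNoetherianRing L := inferInstance
    obtain ⟨G, hGc, hGs⟩ : ∃ G : Finset (B F), G.card = (maximalIdeal (B F)).spanFinrank ∧
        Ideal.span (G : Set (B F)) = maximalIdeal (B F) := by
      have hfg : (maximalIdeal (B F)).FG := IsNoetherian.noetherian _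
      exact ⟨(Submodule.FG.finite_generators hfg).toFinset,
        by rw [← Set.ncard_eq_toFinset_card _ (Submodule.FG.finite_generators hfg), Submodule.FG.generators_ncard hfg],
        by rw [Set.Finite.coe_toFinset]; exact Submodule.span_generators _⟩
    choose lift hlift using fun b : B F => e.surjective b
    choose lift' hlift' using fun b : B F => Ideal.Quotient.mk_surjective (lift b)
    let Gs : Finset L := G.image lift' ∪ (Finset.univ.erase i₀).image fun i => ι (F i)
    have he : ∀ y : L, e (Ideal.Quotient.mk _ y) = ρ y := fun _ => rfl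
    have hρl : ∀ b, ρ (lift' b) = b := fun b => by rw [← he, hlift', hlift]
    haveI : IsLocalHom ρ := Function.Surjective.isLocalHom ρ fun b => ⟨_, hρl b⟩
    have hGm : Ideal.span (Gs : Set L) ≤ maximalIdeal L := by
      rw [Ideal.span_le]
      intro y hy
      simp only [Gs, Finset.coe_union, Finset.coe_image, Set.mem_union, Set.mem_image] at hy
      rcases hy with ⟨b, hb, rfl⟩ | ⟨i, _, rfl⟩
      · have : ρ (lift' b) ∈ maximalIdeal (B F) := by rw [hρl, ← hGs]; exact Ideal.subset_span hb
        exact fun hu' => this (hu'.map ρ)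
      · exact hfm i
    have hle : maximalIdeal L ≤ Ideal.span (Gs : Set L) ⊔ maximalIdeal L • maximalIdeal L := by
      intro y hy
      have h1 : ρ y ∈ Ideal.span (G : Set (B F)) := by
        rw [hGs]
        exact fun hu' => hy (isUnit_of_map_unit ρ y hu')
      have h2 : (Ideal.span (lift' '' (G : Set (B F)))).map ρ = Ideal.span (G : Set (B F)) := by
        rw [Ideal.map_span, Set.image_image]
        simp [hρl]
      rw [← h2] at h1
      obtain ⟨z, hz, hzy⟩ := (Ideal.mem_map_iff_of_surjective ρ fun b => ⟨_, hρl b⟩).1 h1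
      have hker : y - z ∈ Ideal.span (Set.range fun i => ι (F i)) := by
        rw [← Ideal.Quotient.eq_zero_iff_mem, ← e.map_eq_zero_iff, he, map_sub, hzy, sub_self]
      rw [← sub_add_cancel y z]
      refine Submodule.add_mem _ ?_ (Ideal.mem_sup_left (Ideal.span_mono (by simp [Gs]) hz))
      refine Ideal.span_le.2 ?_ hker
      rintro _ ⟨i, rfl⟩
      by_cases hi : i = i₀
      · subst hi
        have hrest : ι (MvPolynomial.C (a i)) * ι (F i) ∈ Ideal.span (Gs : Set L) ⊔ maximalIdeal L • maximalIdeal L := by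
          have : ι (MvPolynomial.C (a i)) * ι (F i) =
              x - ∑ j ∈ Finset.univ.erase i, ι (MvPolynomial.C (a j)) * ι (F j) := by
            simp [x, ← Finset.add_sum_erase _ _ (Finset.mem_univ i)]
          rw [this]
          exact Submodule.sub_mem _ (Ideal.mem_sup_right (by rwa [Ideal.smul_eq_mul, ← sq]))
            (Ideal.mem_sup_left (Ideal.sum_mem _ fun j hj => Ideal.mul_mem_left _ _ (Ideal.subset_span
              (by simp only [Gs, Finset.coe_union, Finset.coe_image, Set.mem_union, Set.mem_image]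
                  exact Or.inr ⟨j, hj, rfl⟩))))
        exact (Ideal.unit_mul_mem_iff_mem _ hu).1 hrest
      · exact Ideal.mem_sup_left (Ideal.subset_span (by
          simp only [Gs, Finset.coe_union, Finset.coe_image, Set.mem_union, Set.mem_image]
          exact Or.inr ⟨i, by simp [hi], rfl⟩))
    have hL : maximalIdeal L = Ideal.span (Gs : Set L) := le_antisymm
      (Submodule.le_of_le_smul_of_le_jacobson_bot (IsNoetherian.noetherian _)
        (IsLocalRing.maximalIdeal_le_jacobson _) hle) hGm
    have h1 : (maximalIdeal L).spanFinrank ≤ (maximalIdeal (B F)).spanFinrank + (r - 1) := by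
      rw [hL]
      refine (Submodule.spanFinrank_span_le_ncard_of_finite Gs.finite_toSet).trans ?_
      rw [Set.ncard_coe_finset, ← hGc]
      refine (Finset.card_union_le _ _).trans (Nat.add_le_add Finset.card_image_le ?_)
      exact Finset.card_image_le.trans (by simp)
    have hr : 1 ≤ r := Fin.pos i₀
    have hdimL : ringKrullDim L ≤ ((maximalIdeal L).spanFinrank : WithBot ℕ∞) := ringKrullDim_le_spanFinrank_maximalIdeal L
    rw [IsLocalization.AtPrime.ringKrullDim_eq_height N L, hht] at hdimL
    rw [← (isRegularLocalRing_iff (B F)).1 inferInstance, ← IsLocalRing.maximalIdeal_height_eq_ringKrullDim] at hBA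
    have hBA' : ((maximalIdeal (B F)).spanFinrank : ℕ∞) ≤ (maximalIdeal A).height := by exact_mod_cast hBA
    have hd' : (maximalIdeal A).height + (r : ℕ∞) ≤ ((maximalIdeal L).spanFinrank : ℕ∞) := by exact_mod_cast hdimL
    obtain ⟨dA, hdA⟩ := ENat.ne_top_iff_exists.1 (Ideal.height_ne_top (maximalIdeal.isMaximal A).ne_top)
    rw [← hdA] at hd' hBA'
    norm_cast at hd' hBA'
    omega
  · intro hli
    have hreg : IsRegularLocalRing (L ⧸ Ideal.span (Set.range fun i => ι (F i))) := by
      refine (isRegularLocalRing_quotient_of_indepSq r L _ hfm fun c hc i₀ => ?_).1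
      obtain ⟨⟨s, hs⟩, hsc⟩ := IsLocalization.exist_integer_multiples_of_finite N.primeCompl c
      choose a ha using hsc
      have hmem : ι (∑ i, a i * F i) ∈ maximalIdeal L ^ 2 := by
        have h := Ideal.mul_mem_left _ (ι s) hc
        rw [Finset.mul_sum] at h
        rw [map_sum]
        convert h using 2 with i
        rw [map_mul, ← mul_assoc]
        congr 1
        exact (ha i).trans (Algebra.smul_def s (c i))
      rw [← IsLocalization.AtPrime.map_eq_maximalIdeal N L, ← Ideal.map_pow,
        IsLocalization.algebraMap_mem_map_algebraMap_iff N.primeCompl L] at hmem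
      obtain ⟨t, ht, hts⟩ := hmem
      have ha0 : a i₀ ∈ N := by
        refine coeff_mem p f F S hF hli N hNA hFN a t ?_ i₀ ht
        simpa [mul_comm] using hts
      have h3 : ι (a i₀) ∈ maximalIdeal L := (IsLocalization.AtPrime.to_map_mem_maximal_iff L N _).2 ha0
      rw [show ι (a i₀) = s • c i₀ from ha i₀, Algebra.smul_def] at h3
      exact (Ideal.unit_mul_mem_iff_mem _ (IsLocalization.map_units L (⟨s, hs⟩ : N.primeCompl))).1 h3
    haveI : IsRegularLocalRing (B F) := IsRegularLocalRing.of_ringEquiv (R := L ⧸ Ideal.span (Set.range fun i => ι (F i))) e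
    exact GrothLib.Serre.isRegularRing_of_isRegularLocalRing (B F)

end GrothLib.PPolyReg
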